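import Cfsg.Agent.Fi22Mult.Two

/-! Generated: kernel checks. -/

set_option Elab.async false

namespace Cfsg.Agent.Fi22Mult.Top

open Cfsg.Agent.CosetCert

theorem deck_okAt5000 : allFrom checkDeck 5000 250 = true := by decide +kernel

theorem deck_okAt5250 : allFrom checkDeck 5250 250 = true := by decide +kernel

theorem deck_okAt5500 : allFrom checkDeck 5500 250 = true := by decide +kernel

theorem deck_okAt5750 : allFrom checkDeck 5750 250 = true := by decide +kernel

theorem deck_okAt6000 : allFrom checkDeck 6000 250 = true := by decide +kernel

theorem deck_okAt6250 : allFrom checkDeck 6250 250 = true := by decide +kernel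

theorem deck_okAt6500 : allFrom checkDeck 6500 250 = true := by decide +kernel

theorem deck_okAt6750 : allFrom checkDeck 6750 250 = true := by decide +kernel

theorem deck_okAt7000 : allFrom checkDeck 7000 250 = true := by decide +kernel

theorem deck_okAt7250 : allFrom checkDeck 7250 250 = true := by decide +kernel

theorem deck_okAt7500 : allFrom checkDeck 7500 250 = true := by decide +kernel

theorem deck_okAt7750 : allFrom checkDeck 7750 250 = true := by decide +kernel

theorem deck_okAt8000 : allFrom checkDeck 8000 250 = true := by decide +kernel

theorem deck_okAt8250 : allFrom checkDeck 8250 250 = true := by decide +kernel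

theorem deck_okAt8500 : allFrom checkDeck 8500 250 = true := by decide +kernel

theorem deck_okAt8750 : allFrom checkDeck 8750 250 = true := by decide +kernel

theorem deck_okAt9000 : allFrom checkDeck 9000 250 = true := by decide +kernel

theorem deck_okAt9250 : allFrom checkDeck 9250 250 = true := by decide +kernel

theorem deck_okAt9500 : allFrom checkDeck 9500 250 = true := by decide +kernel

theorem deck_okAt9750 : allFrom checkDeck 9750 250 = true := by decide +kernel

end Cfsg.Agent.Fi22Mult.Top
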