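import Cfsg.Agent.Fi22Mult.Two

/-! Generated: kernel checks. -/

set_option Elab.async false

namespace Cfsg.Agent.Fi22Mult.Top

open Cfsg.Agent.CosetCert

theorem deck_okAt10000 : allFrom checkDeck 10000 250 = true := by decide +kernel

theorem deck_okAt10250 : allFrom checkDeck 10250 250 = true := by decide +kernel

theorem deck_okAt10500 : allFrom checkDeck 10500 250 = true := by decide +kernel

theorem deck_okAt10750 : allFrom checkDeck 10750 250 = true := by decide +kernel

theorem deck_okAt11000 : allFrom checkDeck 11000 250 = true := by decide +kernel

theorem deck_okAt11250 : allFrom checkDeck 11250 250 = true := by decide +kernel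

theorem deck_okAt11500 : allFrom checkDeck 11500 250 = true := by decide +kernel

theorem deck_okAt11750 : allFrom checkDeck 11750 250 = true := by decide +kernel

theorem deck_okAt12000 : allFrom checkDeck 12000 250 = true := by decide +kernel

theorem deck_okAt12250 : allFrom checkDeck 12250 250 = true := by decide +kernel

theorem deck_okAt12500 : allFrom checkDeck 12500 250 = true := by decide +kernel

theorem deck_okAt12750 : allFrom checkDeck 12750 250 = true := by decide +kernel

theorem deck_okAt13000 : allFrom checkDeck 13000 250 = true := by decide +kernel

theorem deck_okAt13250 : allFrom checkDeck 13250 250 = true := by decide +kernel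

theorem deck_okAt13500 : allFrom checkDeck 13500 250 = true := by decide +kernel

theorem deck_okAt13750 : allFrom checkDeck 13750 250 = true := by decide +kernel

theorem deck_okAt14000 : allFrom checkDeck 14000 250 = true := by decide +kernel

theorem deck_okAt14250 : allFrom checkDeck 14250 250 = true := by decide +kernel

theorem deck_okAt14500 : allFrom checkDeck 14500 250 = true := by decide +kernel

theorem deck_okAt14750 : allFrom checkDeck 14750 250 = true := by decide +kernel

end Cfsg.Agent.Fi22Mult.Top
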