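import Cfsg.Agent.Fi22Mult.Two

/-! Generated: kernel checks. -/

set_option Elab.async false

namespace Cfsg.Agent.Fi22Mult.Top

open Cfsg.Agent.CosetCert

theorem deck_okAt15000 : allFrom checkDeck 15000 250 = true := by decide +kernel

theorem deck_okAt15250 : allFrom checkDeck 15250 250 = true := by decide +kernel

theorem deck_okAt15500 : allFrom checkDeck 15500 250 = true := by decide +kernel

theorem deck_okAt15750 : allFrom checkDeck 15750 250 = true := by decide +kernel

theorem deck_okAt16000 : allFrom checkDeck 16000 250 = true := by decide +kernel

theorem deck_okAt16250 : allFrom checkDeck 16250 250 = true := by decide +kernel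

theorem deck_okAt16500 : allFrom checkDeck 16500 250 = true := by decide +kernel

theorem deck_okAt16750 : allFrom checkDeck 16750 250 = true := by decide +kernel

theorem deck_okAt17000 : allFrom checkDeck 17000 250 = true := by decide +kernel

theorem deck_okAt17250 : allFrom checkDeck 17250 250 = true := by decide +kernel

theorem deck_okAt17500 : allFrom checkDeck 17500 250 = true := by decide +kernel

theorem deck_okAt17750 : allFrom checkDeck 17750 250 = true := by decide +kernel

theorem deck_okAt18000 : allFrom checkDeck 18000 250 = true := by decide +kernel

theorem deck_okAt18250 : allFrom checkDeck 18250 250 = true := by decide +kernel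

theorem deck_okAt18500 : allFrom checkDeck 18500 250 = true := by decide +kernel

theorem deck_okAt18750 : allFrom checkDeck 18750 250 = true := by decide +kernel

theorem deck_okAt19000 : allFrom checkDeck 19000 250 = true := by decide +kernel

theorem deck_okAt19250 : allFrom checkDeck 19250 250 = true := by decide +kernel

theorem deck_okAt19500 : allFrom checkDeck 19500 250 = true := by decide +kernel

theorem deck_okAt19750 : allFrom checkDeck 19750 250 = true := by decide +kernel

end Cfsg.Agent.Fi22Mult.Top
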