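import Cfsg.Agent.Fi22Mult.Two

/-! Generated: kernel checks. -/

set_option Elab.async false

namespace Cfsg.Agent.Fi22Mult.Top

open Cfsg.Agent.CosetCert

theorem deck_okAt20000 : allFrom checkDeck 20000 250 = true := by decide +kernel

theorem deck_okAt20250 : allFrom checkDeck 20250 250 = true := by decide +kernel

theorem deck_okAt20500 : allFrom checkDeck 20500 250 = true := by decide +kernel

theorem deck_okAt20750 : allFrom checkDeck 20750 250 = true := by decide +kernel

theorem deck_okAt21000 : allFrom checkDeck 21000 250 = true := by decide +kernel

theorem deck_okAt21250 : allFrom checkDeck 21250 250 = true := by decide +kernel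

theorem deck_okAt21500 : allFrom checkDeck 21500 250 = true := by decide +kernel

theorem deck_okAt21750 : allFrom checkDeck 21750 250 = true := by decide +kernel

theorem deck_okAt22000 : allFrom checkDeck 22000 250 = true := by decide +kernel

theorem deck_okAt22250 : allFrom checkDeck 22250 250 = true := by decide +kernel

theorem deck_okAt22500 : allFrom checkDeck 22500 250 = true := by decide +kernel

theorem deck_okAt22750 : allFrom checkDeck 22750 250 = true := by decide +kernel

theorem deck_okAt23000 : allFrom checkDeck 23000 250 = true := by decide +kernel

theorem deck_okAt23250 : allFrom checkDeck 23250 250 = true := by decide +kernel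

theorem deck_okAt23500 : allFrom checkDeck 23500 250 = true := by decide +kernel

theorem deck_okAt23750 : allFrom checkDeck 23750 250 = true := by decide +kernel

theorem deck_okAt24000 : allFrom checkDeck 24000 250 = true := by decide +kernel

theorem deck_okAt24250 : allFrom checkDeck 24250 250 = true := by decide +kernel

theorem deck_okAt24500 : allFrom checkDeck 24500 250 = true := by decide +kernel

theorem deck_okAt24750 : allFrom checkDeck 24750 250 = true := by decide +kernel

end Cfsg.Agent.Fi22Mult.Top
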