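import Cfsg.Agent.Fi22Mult.Two

/-! Generated: kernel checks. -/

set_option Elab.async false

namespace Cfsg.Agent.Fi22Mult.Top

open Cfsg.Agent.CosetCert

theorem deck_okAt25000 : allFrom checkDeck 25000 250 = true := by decide +kernel

theorem deck_okAt25250 : allFrom checkDeck 25250 250 = true := by decide +kernel

theorem deck_okAt25500 : allFrom checkDeck 25500 250 = true := by decide +kernel

theorem deck_okAt25750 : allFrom checkDeck 25750 250 = true := by decide +kernel

theorem deck_okAt26000 : allFrom checkDeck 26000 250 = true := by decide +kernel

theorem deck_okAt26250 : allFrom checkDeck 26250 250 = true := by decide +kernel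

theorem deck_okAt26500 : allFrom checkDeck 26500 250 = true := by decide +kernel

theorem deck_okAt26750 : allFrom checkDeck 26750 250 = true := by decide +kernel

theorem deck_okAt27000 : allFrom checkDeck 27000 250 = true := by decide +kernel

theorem deck_okAt27250 : allFrom checkDeck 27250 250 = true := by decide +kernel

theorem deck_okAt27500 : allFrom checkDeck 27500 250 = true := by decide +kernel

theorem deck_okAt27750 : allFrom checkDeck 27750 250 = true := by decide +kernel

theorem deck_okAt28000 : allFrom checkDeck 28000 160 = true := by decide +kernel

end Cfsg.Agent.Fi22Mult.Top
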