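import Cfsg.Agent.Fi22Mult.Top.CheckDeck0
import Cfsg.Agent.Fi22Mult.Top.CheckDeck1
import Cfsg.Agent.Fi22Mult.Top.CheckDeck2
import Cfsg.Agent.Fi22Mult.Top.CheckDeck3
import Cfsg.Agent.Fi22Mult.Top.CheckDeck4
import Cfsg.Agent.Fi22Mult.Top.CheckDeck5

/-! Generated: kernel checks combined. -/

namespace Cfsg.Agent.Fi22Mult.Top

open Cfsg.Agent.CosetCert

theorem deck_ok : ∀ i, i < 28160 → checkDeck i = true := by
  have h0 : ∀ i, i < 0 → checkDeck i = true := forall_lt_zero
  have h1 := forall_lt_step (b := 250) h0 deck_okAt0 rfl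
  have h2 := forall_lt_step (b := 500) h1 deck_okAt250 rfl
  have h3 := forall_lt_step (b := 750) h2 deck_okAt500 rfl
  have h4 := forall_lt_step (b := 1000) h3 deck_okAt750 rfl
  have h5 := forall_lt_step (b := 1250) h4 deck_okAt1000 rfl
  have h6 := forall_lt_step (b := 1500) h5 deck_okAt1250 rfl
  have h7 := forall_lt_step (b := 1750) h6 deck_okAt1500 rfl
  have h8 := forall_lt_step (b := 2000) h7 deck_okAt1750 rfl
  have h9 := forall_lt_step (b := 2250) h8 deck_okAt2000 rfl
  have h10 := forall_lt_step (b := 2500) h9 deck_okAt2250 rfl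
  have h11 := forall_lt_step (b := 2750) h10 deck_okAt2500 rfl
  have h12 := forall_lt_step (b := 3000) h11 deck_okAt2750 rfl
  have h13 := forall_lt_step (b := 3250) h12 deck_okAt3000 rfl
  have h14 := forall_lt_step (b := 3500) h13 deck_okAt3250 rfl
  have h15 := forall_lt_step (b := 3750) h14 deck_okAt3500 rfl
  have h16 := forall_lt_step (b := 4000) h15 deck_okAt3750 rfl
  have h17 := forall_lt_step (b := 4250) h16 deck_okAt4000 rfl
  have h18 := forall_lt_step (b := 4500) h17 deck_okAt4250 rfl
  have h19 := forall_lt_step (b := 4750) h18 deck_okAt4500 rfl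
  have h20 := forall_lt_step (b := 5000) h19 deck_okAt4750 rfl
  have h21 := forall_lt_step (b := 5250) h20 deck_okAt5000 rfl
  have h22 := forall_lt_step (b := 5500) h21 deck_okAt5250 rfl
  have h23 := forall_lt_step (b := 5750) h22 deck_okAt5500 rfl
  have h24 := forall_lt_step (b := 6000) h23 deck_okAt5750 rfl
  have h25 := forall_lt_step (b := 6250) h24 deck_okAt6000 rfl
  have h26 := forall_lt_step (b := 6500) h25 deck_okAt6250 rfl
  have h27 := forall_lt_step (b := 6750) h26 deck_okAt6500 rfl
  have h28 := forall_lt_step (b := 7000) h27 deck_okAt6750 rfl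
  have h29 := forall_lt_step (b := 7250) h28 deck_okAt7000 rfl
  have h30 := forall_lt_step (b := 7500) h29 deck_okAt7250 rfl
  have h31 := forall_lt_step (b := 7750) h30 deck_okAt7500 rfl
  have h32 := forall_lt_step (b := 8000) h31 deck_okAt7750 rfl
  have h33 := forall_lt_step (b := 8250) h32 deck_okAt8000 rfl
  have h34 := forall_lt_step (b := 8500) h33 deck_okAt8250 rfl
  have h35 := forall_lt_step (b := 8750) h34 deck_okAt8500 rfl
  have h36 := forall_lt_step (b := 9000) h35 deck_okAt8750 rfl
  have h37 := forall_lt_step (b := 9250) h36 deck_okAt9000 rfl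
  have h38 := forall_lt_step (b := 9500) h37 deck_okAt9250 rfl
  have h39 := forall_lt_step (b := 9750) h38 deck_okAt9500 rfl
  have h40 := forall_lt_step (b := 10000) h39 deck_okAt9750 rfl
  have h41 := forall_lt_step (b := 10250) h40 deck_okAt10000 rfl
  have h42 := forall_lt_step (b := 10500) h41 deck_okAt10250 rfl
  have h43 := forall_lt_step (b := 10750) h42 deck_okAt10500 rfl
  have h44 := forall_lt_step (b := 11000) h43 deck_okAt10750 rfl
  have h45 := forall_lt_step (b := 11250) h44 deck_okAt11000 rfl
  have h46 := forall_lt_step (b := 11500) h45 deck_okAt11250 rfl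
  have h47 := forall_lt_step (b := 11750) h46 deck_okAt11500 rfl
  have h48 := forall_lt_step (b := 12000) h47 deck_okAt11750 rfl
  have h49 := forall_lt_step (b := 12250) h48 deck_okAt12000 rfl
  have h50 := forall_lt_step (b := 12500) h49 deck_okAt12250 rfl
  have h51 := forall_lt_step (b := 12750) h50 deck_okAt12500 rfl
  have h52 := forall_lt_step (b := 13000) h51 deck_okAt12750 rfl
  have h53 := forall_lt_step (b := 13250) h52 deck_okAt13000 rfl
  have h54 := forall_lt_step (b := 13500) h53 deck_okAt13250 rfl
  have h55 := forall_lt_step (b := 13750) h54 deck_okAt13500 rfl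
  have h56 := forall_lt_step (b := 14000) h55 deck_okAt13750 rfl
  have h57 := forall_lt_step (b := 14250) h56 deck_okAt14000 rfl
  have h58 := forall_lt_step (b := 14500) h57 deck_okAt14250 rfl
  have h59 := forall_lt_step (b := 14750) h58 deck_okAt14500 rfl
  have h60 := forall_lt_step (b := 15000) h59 deck_okAt14750 rfl
  have h61 := forall_lt_step (b := 15250) h60 deck_okAt15000 rfl
  have h62 := forall_lt_step (b := 15500) h61 deck_okAt15250 rfl
  have h63 := forall_lt_step (b := 15750) h62 deck_okAt15500 rfl
  have h64 := forall_lt_step (b := 16000) h63 deck_okAt15750 rfl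
  have h65 := forall_lt_step (b := 16250) h64 deck_okAt16000 rfl
  have h66 := forall_lt_step (b := 16500) h65 deck_okAt16250 rfl
  have h67 := forall_lt_step (b := 16750) h66 deck_okAt16500 rfl
  have h68 := forall_lt_step (b := 17000) h67 deck_okAt16750 rfl
  have h69 := forall_lt_step (b := 17250) h68 deck_okAt17000 rfl
  have h70 := forall_lt_step (b := 17500) h69 deck_okAt17250 rfl
  have h71 := forall_lt_step (b := 17750) h70 deck_okAt17500 rfl
  have h72 := forall_lt_step (b := 18000) h71 deck_okAt17750 rfl
  have h73 := forall_lt_step (b := 18250) h72 deck_okAt18000 rfl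
  have h74 := forall_lt_step (b := 18500) h73 deck_okAt18250 rfl
  have h75 := forall_lt_step (b := 18750) h74 deck_okAt18500 rfl
  have h76 := forall_lt_step (b := 19000) h75 deck_okAt18750 rfl
  have h77 := forall_lt_step (b := 19250) h76 deck_okAt19000 rfl
  have h78 := forall_lt_step (b := 19500) h77 deck_okAt19250 rfl
  have h79 := forall_lt_step (b := 19750) h78 deck_okAt19500 rfl
  have h80 := forall_lt_step (b := 20000) h79 deck_okAt19750 rfl
  have h81 := forall_lt_step (b := 20250) h80 deck_okAt20000 rfl
  have h82 := forall_lt_step (b := 20500) h81 deck_okAt20250 rfl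
  have h83 := forall_lt_step (b := 20750) h82 deck_okAt20500 rfl
  have h84 := forall_lt_step (b := 21000) h83 deck_okAt20750 rfl
  have h85 := forall_lt_step (b := 21250) h84 deck_okAt21000 rfl
  have h86 := forall_lt_step (b := 21500) h85 deck_okAt21250 rfl
  have h87 := forall_lt_step (b := 21750) h86 deck_okAt21500 rfl
  have h88 := forall_lt_step (b := 22000) h87 deck_okAt21750 rfl
  have h89 := forall_lt_step (b := 22250) h88 deck_okAt22000 rfl
  have h90 := forall_lt_step (b := 22500) h89 deck_okAt22250 rfl
  have h91 := forall_lt_step (b := 22750) h90 deck_okAt22500 rfl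
  have h92 := forall_lt_step (b := 23000) h91 deck_okAt22750 rfl
  have h93 := forall_lt_step (b := 23250) h92 deck_okAt23000 rfl
  have h94 := forall_lt_step (b := 23500) h93 deck_okAt23250 rfl
  have h95 := forall_lt_step (b := 23750) h94 deck_okAt23500 rfl
  have h96 := forall_lt_step (b := 24000) h95 deck_okAt23750 rfl
  have h97 := forall_lt_step (b := 24250) h96 deck_okAt24000 rfl
  have h98 := forall_lt_step (b := 24500) h97 deck_okAt24250 rfl
  have h99 := forall_lt_step (b := 24750) h98 deck_okAt24500 rfl
  have h100 := forall_lt_step (b := 25000) h99 deck_okAt24750 rfl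
  have h101 := forall_lt_step (b := 25250) h100 deck_okAt25000 rfl
  have h102 := forall_lt_step (b := 25500) h101 deck_okAt25250 rfl
  have h103 := forall_lt_step (b := 25750) h102 deck_okAt25500 rfl
  have h104 := forall_lt_step (b := 26000) h103 deck_okAt25750 rfl
  have h105 := forall_lt_step (b := 26250) h104 deck_okAt26000 rfl
  have h106 := forall_lt_step (b := 26500) h105 deck_okAt26250 rfl
  have h107 := forall_lt_step (b := 26750) h106 deck_okAt26500 rfl
  have h108 := forall_lt_step (b := 27000) h107 deck_okAt26750 rfl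
  have h109 := forall_lt_step (b := 27250) h108 deck_okAt27000 rfl
  have h110 := forall_lt_step (b := 27500) h109 deck_okAt27250 rfl
  have h111 := forall_lt_step (b := 27750) h110 deck_okAt27500 rfl
  have h112 := forall_lt_step (b := 28000) h111 deck_okAt27750 rfl
  have h113 := forall_lt_step (b := 28160) h112 deck_okAt28000 rfl
  exact h113

end Cfsg.Agent.Fi22Mult.Top
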