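import Cfsg.Agent.Fi22Mult.Two

/-! Generated: kernel checks. -/

set_option Elab.async false

namespace Cfsg.Agent.Fi22Mult.Top

open Cfsg.Agent.CosetCert

theorem deck_okAt0 : allFrom checkDeck 0 250 = true := by decide +kernel

theorem deck_okAt250 : allFrom checkDeck 250 250 = true := by decide +kernel

theorem deck_okAt500 : allFrom checkDeck 500 250 = true := by decide +kernel

theorem deck_okAt750 : allFrom checkDeck 750 250 = true := by decide +kernel

theorem deck_okAt1000 : allFrom checkDeck 1000 250 = true := by decide +kernel

theorem deck_okAt1250 : allFrom checkDeck 1250 250 = true := by decide +kernel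

theorem deck_okAt1500 : allFrom checkDeck 1500 250 = true := by decide +kernel

theorem deck_okAt1750 : allFrom checkDeck 1750 250 = true := by decide +kernel

theorem deck_okAt2000 : allFrom checkDeck 2000 250 = true := by decide +kernel

theorem deck_okAt2250 : allFrom checkDeck 2250 250 = true := by decide +kernel

theorem deck_okAt2500 : allFrom checkDeck 2500 250 = true := by decide +kernel

theorem deck_okAt2750 : allFrom checkDeck 2750 250 = true := by decide +kernel

theorem deck_okAt3000 : allFrom checkDeck 3000 250 = true := by decide +kernel

theorem deck_okAt3250 : allFrom checkDeck 3250 250 = true := by decide +kernel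

theorem deck_okAt3500 : allFrom checkDeck 3500 250 = true := by decide +kernel

theorem deck_okAt3750 : allFrom checkDeck 3750 250 = true := by decide +kernel

theorem deck_okAt4000 : allFrom checkDeck 4000 250 = true := by decide +kernel

theorem deck_okAt4250 : allFrom checkDeck 4250 250 = true := by decide +kernel

theorem deck_okAt4500 : allFrom checkDeck 4500 250 = true := by decide +kernel

theorem deck_okAt4750 : allFrom checkDeck 4750 250 = true := by decide +kernel

end Cfsg.Agent.Fi22Mult.Top
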