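import Cfsg.Agent.Fi22Mult.Top.Defs

/-! Generated: kernel checks. -/

set_option Elab.async false

namespace Cfsg.Agent.Fi22Mult.Top

open Cfsg.Agent.CosetCert

theorem rels_okAt4800 : allFrom data.checkRels 4800 160 = true := by decide +kernel

theorem rels_okAt4960 : allFrom data.checkRels 4960 160 = true := by decide +kernel

theorem rels_okAt5120 : allFrom data.checkRels 5120 160 = true := by decide +kernel

theorem rels_okAt5280 : allFrom data.checkRels 5280 160 = true := by decide +kernel

theorem rels_okAt5440 : allFrom data.checkRels 5440 160 = true := by decide +kernel

theorem rels_okAt5600 : allFrom data.checkRels 5600 160 = true := by decide +kernel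

theorem rels_okAt5760 : allFrom data.checkRels 5760 160 = true := by decide +kernel

theorem rels_okAt5920 : allFrom data.checkRels 5920 160 = true := by decide +kernel

theorem rels_okAt6080 : allFrom data.checkRels 6080 160 = true := by decide +kernel

theorem rels_okAt6240 : allFrom data.checkRels 6240 160 = true := by decide +kernel

theorem rels_okAt6400 : allFrom data.checkRels 6400 160 = true := by decide +kernel

theorem rels_okAt6560 : allFrom data.checkRels 6560 160 = true := by decide +kernel

theorem rels_okAt6720 : allFrom data.checkRels 6720 160 = true := by decide +kernel

theorem rels_okAt6880 : allFrom data.checkRels 6880 160 = true := by decide +kernel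

theorem rels_okAt7040 : allFrom data.checkRels 7040 160 = true := by decide +kernel

theorem rels_okAt7200 : allFrom data.checkRels 7200 160 = true := by decide +kernel

theorem rels_okAt7360 : allFrom data.checkRels 7360 160 = true := by decide +kernel

theorem rels_okAt7520 : allFrom data.checkRels 7520 160 = true := by decide +kernel

theorem rels_okAt7680 : allFrom data.checkRels 7680 160 = true := by decide +kernel

theorem rels_okAt7840 : allFrom data.checkRels 7840 160 = true := by decide +kernel

theorem rels_okAt8000 : allFrom data.checkRels 8000 160 = true := by decide +kernel

theorem rels_okAt8160 : allFrom data.checkRels 8160 160 = true := by decide +kernel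

theorem rels_okAt8320 : allFrom data.checkRels 8320 160 = true := by decide +kernel

theorem rels_okAt8480 : allFrom data.checkRels 8480 160 = true := by decide +kernel

theorem rels_okAt8640 : allFrom data.checkRels 8640 160 = true := by decide +kernel

theorem rels_okAt8800 : allFrom data.checkRels 8800 160 = true := by decide +kernel

theorem rels_okAt8960 : allFrom data.checkRels 8960 160 = true := by decide +kernel

theorem rels_okAt9120 : allFrom data.checkRels 9120 160 = true := by decide +kernel

theorem rels_okAt9280 : allFrom data.checkRels 9280 160 = true := by decide +kernel

theorem rels_okAt9440 : allFrom data.checkRels 9440 160 = true := by decide +kernel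

end Cfsg.Agent.Fi22Mult.Top
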