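import Cfsg.Agent.Fi22Mult.Top.Defs

/-! Generated: kernel checks. -/

set_option Elab.async false

namespace Cfsg.Agent.Fi22Mult.Top

open Cfsg.Agent.CosetCert

theorem rels_okAt9600 : allFrom data.checkRels 9600 160 = true := by decide +kernel

theorem rels_okAt9760 : allFrom data.checkRels 9760 160 = true := by decide +kernel

theorem rels_okAt9920 : allFrom data.checkRels 9920 160 = true := by decide +kernel

theorem rels_okAt10080 : allFrom data.checkRels 10080 160 = true := by decide +kernel

theorem rels_okAt10240 : allFrom data.checkRels 10240 160 = true := by decide +kernel

theorem rels_okAt10400 : allFrom data.checkRels 10400 160 = true := by decide +kernel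

theorem rels_okAt10560 : allFrom data.checkRels 10560 160 = true := by decide +kernel

theorem rels_okAt10720 : allFrom data.checkRels 10720 160 = true := by decide +kernel

theorem rels_okAt10880 : allFrom data.checkRels 10880 160 = true := by decide +kernel

theorem rels_okAt11040 : allFrom data.checkRels 11040 160 = true := by decide +kernel

theorem rels_okAt11200 : allFrom data.checkRels 11200 160 = true := by decide +kernel

theorem rels_okAt11360 : allFrom data.checkRels 11360 160 = true := by decide +kernel

theorem rels_okAt11520 : allFrom data.checkRels 11520 160 = true := by decide +kernel

theorem rels_okAt11680 : allFrom data.checkRels 11680 160 = true := by decide +kernel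

theorem rels_okAt11840 : allFrom data.checkRels 11840 160 = true := by decide +kernel

theorem rels_okAt12000 : allFrom data.checkRels 12000 160 = true := by decide +kernel

theorem rels_okAt12160 : allFrom data.checkRels 12160 160 = true := by decide +kernel

theorem rels_okAt12320 : allFrom data.checkRels 12320 160 = true := by decide +kernel

theorem rels_okAt12480 : allFrom data.checkRels 12480 160 = true := by decide +kernel

theorem rels_okAt12640 : allFrom data.checkRels 12640 160 = true := by decide +kernel

theorem rels_okAt12800 : allFrom data.checkRels 12800 160 = true := by decide +kernel

theorem rels_okAt12960 : allFrom data.checkRels 12960 160 = true := by decide +kernel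

theorem rels_okAt13120 : allFrom data.checkRels 13120 160 = true := by decide +kernel

theorem rels_okAt13280 : allFrom data.checkRels 13280 160 = true := by decide +kernel

theorem rels_okAt13440 : allFrom data.checkRels 13440 160 = true := by decide +kernel

theorem rels_okAt13600 : allFrom data.checkRels 13600 160 = true := by decide +kernel

theorem rels_okAt13760 : allFrom data.checkRels 13760 160 = true := by decide +kernel

theorem rels_okAt13920 : allFrom data.checkRels 13920 160 = true := by decide +kernel

theorem rels_okAt14080 : allFrom data.checkRels 14080 160 = true := by decide +kernel

theorem rels_okAt14240 : allFrom data.checkRels 14240 160 = true := by decide +kernel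

end Cfsg.Agent.Fi22Mult.Top
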