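import Cfsg.Agent.Fi22Mult.Top.Defs

/-! Generated: kernel checks. -/

set_option Elab.async false

namespace Cfsg.Agent.Fi22Mult.Top

open Cfsg.Agent.CosetCert

theorem rels_okAt14400 : allFrom data.checkRels 14400 160 = true := by decide +kernel

theorem rels_okAt14560 : allFrom data.checkRels 14560 160 = true := by decide +kernel

theorem rels_okAt14720 : allFrom data.checkRels 14720 160 = true := by decide +kernel

theorem rels_okAt14880 : allFrom data.checkRels 14880 160 = true := by decide +kernel

theorem rels_okAt15040 : allFrom data.checkRels 15040 160 = true := by decide +kernel

theorem rels_okAt15200 : allFrom data.checkRels 15200 160 = true := by decide +kernel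

theorem rels_okAt15360 : allFrom data.checkRels 15360 160 = true := by decide +kernel

theorem rels_okAt15520 : allFrom data.checkRels 15520 160 = true := by decide +kernel

theorem rels_okAt15680 : allFrom data.checkRels 15680 160 = true := by decide +kernel

theorem rels_okAt15840 : allFrom data.checkRels 15840 160 = true := by decide +kernel

theorem rels_okAt16000 : allFrom data.checkRels 16000 160 = true := by decide +kernel

theorem rels_okAt16160 : allFrom data.checkRels 16160 160 = true := by decide +kernel

theorem rels_okAt16320 : allFrom data.checkRels 16320 160 = true := by decide +kernel

theorem rels_okAt16480 : allFrom data.checkRels 16480 160 = true := by decide +kernel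

theorem rels_okAt16640 : allFrom data.checkRels 16640 160 = true := by decide +kernel

theorem rels_okAt16800 : allFrom data.checkRels 16800 160 = true := by decide +kernel

theorem rels_okAt16960 : allFrom data.checkRels 16960 160 = true := by decide +kernel

theorem rels_okAt17120 : allFrom data.checkRels 17120 160 = true := by decide +kernel

theorem rels_okAt17280 : allFrom data.checkRels 17280 160 = true := by decide +kernel

theorem rels_okAt17440 : allFrom data.checkRels 17440 160 = true := by decide +kernel

theorem rels_okAt17600 : allFrom data.checkRels 17600 160 = true := by decide +kernel

theorem rels_okAt17760 : allFrom data.checkRels 17760 160 = true := by decide +kernel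

theorem rels_okAt17920 : allFrom data.checkRels 17920 160 = true := by decide +kernel

theorem rels_okAt18080 : allFrom data.checkRels 18080 160 = true := by decide +kernel

theorem rels_okAt18240 : allFrom data.checkRels 18240 160 = true := by decide +kernel

theorem rels_okAt18400 : allFrom data.checkRels 18400 160 = true := by decide +kernel

theorem rels_okAt18560 : allFrom data.checkRels 18560 160 = true := by decide +kernel

theorem rels_okAt18720 : allFrom data.checkRels 18720 160 = true := by decide +kernel

theorem rels_okAt18880 : allFrom data.checkRels 18880 160 = true := by decide +kernel

theorem rels_okAt19040 : allFrom data.checkRels 19040 160 = true := by decide +kernel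

end Cfsg.Agent.Fi22Mult.Top
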