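import Cfsg.Agent.Fi22Mult.Top.Defs

/-! Generated: kernel checks. -/

set_option Elab.async false

namespace Cfsg.Agent.Fi22Mult.Top

open Cfsg.Agent.CosetCert

theorem rels_okAt19200 : allFrom data.checkRels 19200 160 = true := by decide +kernel

theorem rels_okAt19360 : allFrom data.checkRels 19360 160 = true := by decide +kernel

theorem rels_okAt19520 : allFrom data.checkRels 19520 160 = true := by decide +kernel

theorem rels_okAt19680 : allFrom data.checkRels 19680 160 = true := by decide +kernel

theorem rels_okAt19840 : allFrom data.checkRels 19840 160 = true := by decide +kernel

theorem rels_okAt20000 : allFrom data.checkRels 20000 160 = true := by decide +kernel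

theorem rels_okAt20160 : allFrom data.checkRels 20160 160 = true := by decide +kernel

theorem rels_okAt20320 : allFrom data.checkRels 20320 160 = true := by decide +kernel

theorem rels_okAt20480 : allFrom data.checkRels 20480 160 = true := by decide +kernel

theorem rels_okAt20640 : allFrom data.checkRels 20640 160 = true := by decide +kernel

theorem rels_okAt20800 : allFrom data.checkRels 20800 160 = true := by decide +kernel

theorem rels_okAt20960 : allFrom data.checkRels 20960 160 = true := by decide +kernel

theorem rels_okAt21120 : allFrom data.checkRels 21120 160 = true := by decide +kernel

theorem rels_okAt21280 : allFrom data.checkRels 21280 160 = true := by decide +kernel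

theorem rels_okAt21440 : allFrom data.checkRels 21440 160 = true := by decide +kernel

theorem rels_okAt21600 : allFrom data.checkRels 21600 160 = true := by decide +kernel

theorem rels_okAt21760 : allFrom data.checkRels 21760 160 = true := by decide +kernel

theorem rels_okAt21920 : allFrom data.checkRels 21920 160 = true := by decide +kernel

theorem rels_okAt22080 : allFrom data.checkRels 22080 160 = true := by decide +kernel

theorem rels_okAt22240 : allFrom data.checkRels 22240 160 = true := by decide +kernel

theorem rels_okAt22400 : allFrom data.checkRels 22400 160 = true := by decide +kernel

theorem rels_okAt22560 : allFrom data.checkRels 22560 160 = true := by decide +kernel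

theorem rels_okAt22720 : allFrom data.checkRels 22720 160 = true := by decide +kernel

theorem rels_okAt22880 : allFrom data.checkRels 22880 160 = true := by decide +kernel

theorem rels_okAt23040 : allFrom data.checkRels 23040 160 = true := by decide +kernel

theorem rels_okAt23200 : allFrom data.checkRels 23200 160 = true := by decide +kernel

theorem rels_okAt23360 : allFrom data.checkRels 23360 160 = true := by decide +kernel

theorem rels_okAt23520 : allFrom data.checkRels 23520 160 = true := by decide +kernel

theorem rels_okAt23680 : allFrom data.checkRels 23680 160 = true := by decide +kernel

theorem rels_okAt23840 : allFrom data.checkRels 23840 160 = true := by decide +kernel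

end Cfsg.Agent.Fi22Mult.Top
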