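import Cfsg.Agent.Fi22Mult.Top.Defs

/-! Generated: kernel checks. -/

set_option Elab.async false

namespace Cfsg.Agent.Fi22Mult.Top

open Cfsg.Agent.CosetCert

theorem rels_okAt24000 : allFrom data.checkRels 24000 160 = true := by decide +kernel

theorem rels_okAt24160 : allFrom data.checkRels 24160 160 = true := by decide +kernel

theorem rels_okAt24320 : allFrom data.checkRels 24320 160 = true := by decide +kernel

theorem rels_okAt24480 : allFrom data.checkRels 24480 160 = true := by decide +kernel

theorem rels_okAt24640 : allFrom data.checkRels 24640 160 = true := by decide +kernel

theorem rels_okAt24800 : allFrom data.checkRels 24800 160 = true := by decide +kernel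

theorem rels_okAt24960 : allFrom data.checkRels 24960 160 = true := by decide +kernel

theorem rels_okAt25120 : allFrom data.checkRels 25120 160 = true := by decide +kernel

theorem rels_okAt25280 : allFrom data.checkRels 25280 160 = true := by decide +kernel

theorem rels_okAt25440 : allFrom data.checkRels 25440 160 = true := by decide +kernel

theorem rels_okAt25600 : allFrom data.checkRels 25600 160 = true := by decide +kernel

theorem rels_okAt25760 : allFrom data.checkRels 25760 160 = true := by decide +kernel

theorem rels_okAt25920 : allFrom data.checkRels 25920 160 = true := by decide +kernel

theorem rels_okAt26080 : allFrom data.checkRels 26080 160 = true := by decide +kernel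

theorem rels_okAt26240 : allFrom data.checkRels 26240 160 = true := by decide +kernel

theorem rels_okAt26400 : allFrom data.checkRels 26400 160 = true := by decide +kernel

theorem rels_okAt26560 : allFrom data.checkRels 26560 160 = true := by decide +kernel

theorem rels_okAt26720 : allFrom data.checkRels 26720 160 = true := by decide +kernel

theorem rels_okAt26880 : allFrom data.checkRels 26880 160 = true := by decide +kernel

theorem rels_okAt27040 : allFrom data.checkRels 27040 160 = true := by decide +kernel

theorem rels_okAt27200 : allFrom data.checkRels 27200 160 = true := by decide +kernel

theorem rels_okAt27360 : allFrom data.checkRels 27360 160 = true := by decide +kernel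

theorem rels_okAt27520 : allFrom data.checkRels 27520 160 = true := by decide +kernel

theorem rels_okAt27680 : allFrom data.checkRels 27680 160 = true := by decide +kernel

theorem rels_okAt27840 : allFrom data.checkRels 27840 160 = true := by decide +kernel

theorem rels_okAt28000 : allFrom data.checkRels 28000 160 = true := by decide +kernel

end Cfsg.Agent.Fi22Mult.Top
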