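import Cfsg.Agent.Fi22Mult.Top.CheckRels0
import Cfsg.Agent.Fi22Mult.Top.CheckRels1
import Cfsg.Agent.Fi22Mult.Top.CheckRels2
import Cfsg.Agent.Fi22Mult.Top.CheckRels3
import Cfsg.Agent.Fi22Mult.Top.CheckRels4
import Cfsg.Agent.Fi22Mult.Top.CheckRels5

/-! Generated: kernel checks combined. -/

namespace Cfsg.Agent.Fi22Mult.Top

open Cfsg.Agent.CosetCert

theorem rels_ok : ∀ i, i < 28160 → data.checkRels i = true := by
  have h0 : ∀ i, i < 0 → data.checkRels i = true := forall_lt_zero
  have h1 := forall_lt_step (b := 160) h0 rels_okAt0 rfl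
  have h2 := forall_lt_step (b := 320) h1 rels_okAt160 rfl
  have h3 := forall_lt_step (b := 480) h2 rels_okAt320 rfl
  have h4 := forall_lt_step (b := 640) h3 rels_okAt480 rfl
  have h5 := forall_lt_step (b := 800) h4 rels_okAt640 rfl
  have h6 := forall_lt_step (b := 960) h5 rels_okAt800 rfl
  have h7 := forall_lt_step (b := 1120) h6 rels_okAt960 rfl
  have h8 := forall_lt_step (b := 1280) h7 rels_okAt1120 rfl
  have h9 := forall_lt_step (b := 1440) h8 rels_okAt1280 rfl
  have h10 := forall_lt_step (b := 1600) h9 rels_okAt1440 rfl
  have h11 := forall_lt_step (b := 1760) h10 rels_okAt1600 rfl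
  have h12 := forall_lt_step (b := 1920) h11 rels_okAt1760 rfl
  have h13 := forall_lt_step (b := 2080) h12 rels_okAt1920 rfl
  have h14 := forall_lt_step (b := 2240) h13 rels_okAt2080 rfl
  have h15 := forall_lt_step (b := 2400) h14 rels_okAt2240 rfl
  have h16 := forall_lt_step (b := 2560) h15 rels_okAt2400 rfl
  have h17 := forall_lt_step (b := 2720) h16 rels_okAt2560 rfl
  have h18 := forall_lt_step (b := 2880) h17 rels_okAt2720 rfl
  have h19 := forall_lt_step (b := 3040) h18 rels_okAt2880 rfl
  have h20 := forall_lt_step (b := 3200) h19 rels_okAt3040 rfl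
  have h21 := forall_lt_step (b := 3360) h20 rels_okAt3200 rfl
  have h22 := forall_lt_step (b := 3520) h21 rels_okAt3360 rfl
  have h23 := forall_lt_step (b := 3680) h22 rels_okAt3520 rfl
  have h24 := forall_lt_step (b := 3840) h23 rels_okAt3680 rfl
  have h25 := forall_lt_step (b := 4000) h24 rels_okAt3840 rfl
  have h26 := forall_lt_step (b := 4160) h25 rels_okAt4000 rfl
  have h27 := forall_lt_step (b := 4320) h26 rels_okAt4160 rfl
  have h28 := forall_lt_step (b := 4480) h27 rels_okAt4320 rfl
  have h29 := forall_lt_step (b := 4640) h28 rels_okAt4480 rfl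
  have h30 := forall_lt_step (b := 4800) h29 rels_okAt4640 rfl
  have h31 := forall_lt_step (b := 4960) h30 rels_okAt4800 rfl
  have h32 := forall_lt_step (b := 5120) h31 rels_okAt4960 rfl
  have h33 := forall_lt_step (b := 5280) h32 rels_okAt5120 rfl
  have h34 := forall_lt_step (b := 5440) h33 rels_okAt5280 rfl
  have h35 := forall_lt_step (b := 5600) h34 rels_okAt5440 rfl
  have h36 := forall_lt_step (b := 5760) h35 rels_okAt5600 rfl
  have h37 := forall_lt_step (b := 5920) h36 rels_okAt5760 rfl
  have h38 := forall_lt_step (b := 6080) h37 rels_okAt5920 rfl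
  have h39 := forall_lt_step (b := 6240) h38 rels_okAt6080 rfl
  have h40 := forall_lt_step (b := 6400) h39 rels_okAt6240 rfl
  have h41 := forall_lt_step (b := 6560) h40 rels_okAt6400 rfl
  have h42 := forall_lt_step (b := 6720) h41 rels_okAt6560 rfl
  have h43 := forall_lt_step (b := 6880) h42 rels_okAt6720 rfl
  have h44 := forall_lt_step (b := 7040) h43 rels_okAt6880 rfl
  have h45 := forall_lt_step (b := 7200) h44 rels_okAt7040 rfl
  have h46 := forall_lt_step (b := 7360) h45 rels_okAt7200 rfl
  have h47 := forall_lt_step (b := 7520) h46 rels_okAt7360 rfl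
  have h48 := forall_lt_step (b := 7680) h47 rels_okAt7520 rfl
  have h49 := forall_lt_step (b := 7840) h48 rels_okAt7680 rfl
  have h50 := forall_lt_step (b := 8000) h49 rels_okAt7840 rfl
  have h51 := forall_lt_step (b := 8160) h50 rels_okAt8000 rfl
  have h52 := forall_lt_step (b := 8320) h51 rels_okAt8160 rfl
  have h53 := forall_lt_step (b := 8480) h52 rels_okAt8320 rfl
  have h54 := forall_lt_step (b := 8640) h53 rels_okAt8480 rfl
  have h55 := forall_lt_step (b := 8800) h54 rels_okAt8640 rfl
  have h56 := forall_lt_step (b := 8960) h55 rels_okAt8800 rfl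
  have h57 := forall_lt_step (b := 9120) h56 rels_okAt8960 rfl
  have h58 := forall_lt_step (b := 9280) h57 rels_okAt9120 rfl
  have h59 := forall_lt_step (b := 9440) h58 rels_okAt9280 rfl
  have h60 := forall_lt_step (b := 9600) h59 rels_okAt9440 rfl
  have h61 := forall_lt_step (b := 9760) h60 rels_okAt9600 rfl
  have h62 := forall_lt_step (b := 9920) h61 rels_okAt9760 rfl
  have h63 := forall_lt_step (b := 10080) h62 rels_okAt9920 rfl
  have h64 := forall_lt_step (b := 10240) h63 rels_okAt10080 rfl
  have h65 := forall_lt_step (b := 10400) h64 rels_okAt10240 rfl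
  have h66 := forall_lt_step (b := 10560) h65 rels_okAt10400 rfl
  have h67 := forall_lt_step (b := 10720) h66 rels_okAt10560 rfl
  have h68 := forall_lt_step (b := 10880) h67 rels_okAt10720 rfl
  have h69 := forall_lt_step (b := 11040) h68 rels_okAt10880 rfl
  have h70 := forall_lt_step (b := 11200) h69 rels_okAt11040 rfl
  have h71 := forall_lt_step (b := 11360) h70 rels_okAt11200 rfl
  have h72 := forall_lt_step (b := 11520) h71 rels_okAt11360 rfl
  have h73 := forall_lt_step (b := 11680) h72 rels_okAt11520 rfl
  have h74 := forall_lt_step (b := 11840) h73 rels_okAt11680 rfl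
  have h75 := forall_lt_step (b := 12000) h74 rels_okAt11840 rfl
  have h76 := forall_lt_step (b := 12160) h75 rels_okAt12000 rfl
  have h77 := forall_lt_step (b := 12320) h76 rels_okAt12160 rfl
  have h78 := forall_lt_step (b := 12480) h77 rels_okAt12320 rfl
  have h79 := forall_lt_step (b := 12640) h78 rels_okAt12480 rfl
  have h80 := forall_lt_step (b := 12800) h79 rels_okAt12640 rfl
  have h81 := forall_lt_step (b := 12960) h80 rels_okAt12800 rfl
  have h82 := forall_lt_step (b := 13120) h81 rels_okAt12960 rfl
  have h83 := forall_lt_step (b := 13280) h82 rels_okAt13120 rfl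
  have h84 := forall_lt_step (b := 13440) h83 rels_okAt13280 rfl
  have h85 := forall_lt_step (b := 13600) h84 rels_okAt13440 rfl
  have h86 := forall_lt_step (b := 13760) h85 rels_okAt13600 rfl
  have h87 := forall_lt_step (b := 13920) h86 rels_okAt13760 rfl
  have h88 := forall_lt_step (b := 14080) h87 rels_okAt13920 rfl
  have h89 := forall_lt_step (b := 14240) h88 rels_okAt14080 rfl
  have h90 := forall_lt_step (b := 14400) h89 rels_okAt14240 rfl
  have h91 := forall_lt_step (b := 14560) h90 rels_okAt14400 rfl
  have h92 := forall_lt_step (b := 14720) h91 rels_okAt14560 rfl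
  have h93 := forall_lt_step (b := 14880) h92 rels_okAt14720 rfl
  have h94 := forall_lt_step (b := 15040) h93 rels_okAt14880 rfl
  have h95 := forall_lt_step (b := 15200) h94 rels_okAt15040 rfl
  have h96 := forall_lt_step (b := 15360) h95 rels_okAt15200 rfl
  have h97 := forall_lt_step (b := 15520) h96 rels_okAt15360 rfl
  have h98 := forall_lt_step (b := 15680) h97 rels_okAt15520 rfl
  have h99 := forall_lt_step (b := 15840) h98 rels_okAt15680 rfl
  have h100 := forall_lt_step (b := 16000) h99 rels_okAt15840 rfl
  have h101 := forall_lt_step (b := 16160) h100 rels_okAt16000 rfl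
  have h102 := forall_lt_step (b := 16320) h101 rels_okAt16160 rfl
  have h103 := forall_lt_step (b := 16480) h102 rels_okAt16320 rfl
  have h104 := forall_lt_step (b := 16640) h103 rels_okAt16480 rfl
  have h105 := forall_lt_step (b := 16800) h104 rels_okAt16640 rfl
  have h106 := forall_lt_step (b := 16960) h105 rels_okAt16800 rfl
  have h107 := forall_lt_step (b := 17120) h106 rels_okAt16960 rfl
  have h108 := forall_lt_step (b := 17280) h107 rels_okAt17120 rfl
  have h109 := forall_lt_step (b := 17440) h108 rels_okAt17280 rfl
  have h110 := forall_lt_step (b := 17600) h109 rels_okAt17440 rfl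
  have h111 := forall_lt_step (b := 17760) h110 rels_okAt17600 rfl
  have h112 := forall_lt_step (b := 17920) h111 rels_okAt17760 rfl
  have h113 := forall_lt_step (b := 18080) h112 rels_okAt17920 rfl
  have h114 := forall_lt_step (b := 18240) h113 rels_okAt18080 rfl
  have h115 := forall_lt_step (b := 18400) h114 rels_okAt18240 rfl
  have h116 := forall_lt_step (b := 18560) h115 rels_okAt18400 rfl
  have h117 := forall_lt_step (b := 18720) h116 rels_okAt18560 rfl
  have h118 := forall_lt_step (b := 18880) h117 rels_okAt18720 rfl
  have h119 := forall_lt_step (b := 19040) h118 rels_okAt18880 rfl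
  have h120 := forall_lt_step (b := 19200) h119 rels_okAt19040 rfl
  have h121 := forall_lt_step (b := 19360) h120 rels_okAt19200 rfl
  have h122 := forall_lt_step (b := 19520) h121 rels_okAt19360 rfl
  have h123 := forall_lt_step (b := 19680) h122 rels_okAt19520 rfl
  have h124 := forall_lt_step (b := 19840) h123 rels_okAt19680 rfl
  have h125 := forall_lt_step (b := 20000) h124 rels_okAt19840 rfl
  have h126 := forall_lt_step (b := 20160) h125 rels_okAt20000 rfl
  have h127 := forall_lt_step (b := 20320) h126 rels_okAt20160 rfl
  have h128 := forall_lt_step (b := 20480) h127 rels_okAt20320 rfl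
  have h129 := forall_lt_step (b := 20640) h128 rels_okAt20480 rfl
  have h130 := forall_lt_step (b := 20800) h129 rels_okAt20640 rfl
  have h131 := forall_lt_step (b := 20960) h130 rels_okAt20800 rfl
  have h132 := forall_lt_step (b := 21120) h131 rels_okAt20960 rfl
  have h133 := forall_lt_step (b := 21280) h132 rels_okAt21120 rfl
  have h134 := forall_lt_step (b := 21440) h133 rels_okAt21280 rfl
  have h135 := forall_lt_step (b := 21600) h134 rels_okAt21440 rfl
  have h136 := forall_lt_step (b := 21760) h135 rels_okAt21600 rfl
  have h137 := forall_lt_step (b := 21920) h136 rels_okAt21760 rfl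
  have h138 := forall_lt_step (b := 22080) h137 rels_okAt21920 rfl
  have h139 := forall_lt_step (b := 22240) h138 rels_okAt22080 rfl
  have h140 := forall_lt_step (b := 22400) h139 rels_okAt22240 rfl
  have h141 := forall_lt_step (b := 22560) h140 rels_okAt22400 rfl
  have h142 := forall_lt_step (b := 22720) h141 rels_okAt22560 rfl
  have h143 := forall_lt_step (b := 22880) h142 rels_okAt22720 rfl
  have h144 := forall_lt_step (b := 23040) h143 rels_okAt22880 rfl
  have h145 := forall_lt_step (b := 23200) h144 rels_okAt23040 rfl
  have h146 := forall_lt_step (b := 23360) h145 rels_okAt23200 rfl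
  have h147 := forall_lt_step (b := 23520) h146 rels_okAt23360 rfl
  have h148 := forall_lt_step (b := 23680) h147 rels_okAt23520 rfl
  have h149 := forall_lt_step (b := 23840) h148 rels_okAt23680 rfl
  have h150 := forall_lt_step (b := 24000) h149 rels_okAt23840 rfl
  have h151 := forall_lt_step (b := 24160) h150 rels_okAt24000 rfl
  have h152 := forall_lt_step (b := 24320) h151 rels_okAt24160 rfl
  have h153 := forall_lt_step (b := 24480) h152 rels_okAt24320 rfl
  have h154 := forall_lt_step (b := 24640) h153 rels_okAt24480 rfl
  have h155 := forall_lt_step (b := 24800) h154 rels_okAt24640 rfl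
  have h156 := forall_lt_step (b := 24960) h155 rels_okAt24800 rfl
  have h157 := forall_lt_step (b := 25120) h156 rels_okAt24960 rfl
  have h158 := forall_lt_step (b := 25280) h157 rels_okAt25120 rfl
  have h159 := forall_lt_step (b := 25440) h158 rels_okAt25280 rfl
  have h160 := forall_lt_step (b := 25600) h159 rels_okAt25440 rfl
  have h161 := forall_lt_step (b := 25760) h160 rels_okAt25600 rfl
  have h162 := forall_lt_step (b := 25920) h161 rels_okAt25760 rfl
  have h163 := forall_lt_step (b := 26080) h162 rels_okAt25920 rfl
  have h164 := forall_lt_step (b := 26240) h163 rels_okAt26080 rfl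
  have h165 := forall_lt_step (b := 26400) h164 rels_okAt26240 rfl
  have h166 := forall_lt_step (b := 26560) h165 rels_okAt26400 rfl
  have h167 := forall_lt_step (b := 26720) h166 rels_okAt26560 rfl
  have h168 := forall_lt_step (b := 26880) h167 rels_okAt26720 rfl
  have h169 := forall_lt_step (b := 27040) h168 rels_okAt26880 rfl
  have h170 := forall_lt_step (b := 27200) h169 rels_okAt27040 rfl
  have h171 := forall_lt_step (b := 27360) h170 rels_okAt27200 rfl
  have h172 := forall_lt_step (b := 27520) h171 rels_okAt27360 rfl
  have h173 := forall_lt_step (b := 27680) h172 rels_okAt27520 rfl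
  have h174 := forall_lt_step (b := 27840) h173 rels_okAt27680 rfl
  have h175 := forall_lt_step (b := 28000) h174 rels_okAt27840 rfl
  have h176 := forall_lt_step (b := 28160) h175 rels_okAt28000 rfl
  exact h176

end Cfsg.Agent.Fi22Mult.Top
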