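import Cfsg.Agent.Fi22Mult.Top.Defs

/-! Generated: kernel checks. -/

set_option Elab.async false

namespace Cfsg.Agent.Fi22Mult.Top

open Cfsg.Agent.CosetCert

theorem rels_okAt0 : allFrom data.checkRels 0 160 = true := by decide +kernel

theorem rels_okAt160 : allFrom data.checkRels 160 160 = true := by decide +kernel

theorem rels_okAt320 : allFrom data.checkRels 320 160 = true := by decide +kernel

theorem rels_okAt480 : allFrom data.checkRels 480 160 = true := by decide +kernel

theorem rels_okAt640 : allFrom data.checkRels 640 160 = true := by decide +kernel

theorem rels_okAt800 : allFrom data.checkRels 800 160 = true := by decide +kernel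

theorem rels_okAt960 : allFrom data.checkRels 960 160 = true := by decide +kernel

theorem rels_okAt1120 : allFrom data.checkRels 1120 160 = true := by decide +kernel

theorem rels_okAt1280 : allFrom data.checkRels 1280 160 = true := by decide +kernel

theorem rels_okAt1440 : allFrom data.checkRels 1440 160 = true := by decide +kernel

theorem rels_okAt1600 : allFrom data.checkRels 1600 160 = true := by decide +kernel

theorem rels_okAt1760 : allFrom data.checkRels 1760 160 = true := by decide +kernel

theorem rels_okAt1920 : allFrom data.checkRels 1920 160 = true := by decide +kernel

theorem rels_okAt2080 : allFrom data.checkRels 2080 160 = true := by decide +kernel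

theorem rels_okAt2240 : allFrom data.checkRels 2240 160 = true := by decide +kernel

theorem rels_okAt2400 : allFrom data.checkRels 2400 160 = true := by decide +kernel

theorem rels_okAt2560 : allFrom data.checkRels 2560 160 = true := by decide +kernel

theorem rels_okAt2720 : allFrom data.checkRels 2720 160 = true := by decide +kernel

theorem rels_okAt2880 : allFrom data.checkRels 2880 160 = true := by decide +kernel

theorem rels_okAt3040 : allFrom data.checkRels 3040 160 = true := by decide +kernel

theorem rels_okAt3200 : allFrom data.checkRels 3200 160 = true := by decide +kernel

theorem rels_okAt3360 : allFrom data.checkRels 3360 160 = true := by decide +kernel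

theorem rels_okAt3520 : allFrom data.checkRels 3520 160 = true := by decide +kernel

theorem rels_okAt3680 : allFrom data.checkRels 3680 160 = true := by decide +kernel

theorem rels_okAt3840 : allFrom data.checkRels 3840 160 = true := by decide +kernel

theorem rels_okAt4000 : allFrom data.checkRels 4000 160 = true := by decide +kernel

theorem rels_okAt4160 : allFrom data.checkRels 4160 160 = true := by decide +kernel

theorem rels_okAt4320 : allFrom data.checkRels 4320 160 = true := by decide +kernel

theorem rels_okAt4480 : allFrom data.checkRels 4480 160 = true := by decide +kernel

theorem rels_okAt4640 : allFrom data.checkRels 4640 160 = true := by decide +kernel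

end Cfsg.Agent.Fi22Mult.Top
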